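import Mathlib
import Groth.Prelude.Def_PiSp

/-!
# Residue field extensions of a Galois cover

For a finite étale Galois cover `Z ⟶ X` (in the sense of `PiSp.IsGaloisCover`) and a point `z` of `Z`
the residue field extension `κ(z)/κ(x)` is finite Galois and every prime dividing its degree divides
the order of `Aut Z`.
-/

set_option autoImplicit false
universe u
open CategoryTheory AlgebraicGeometry

namespace Groth.Agent.Lib.Helper9.GalCov

variable {X : Scheme.{u}} (Z : FEt.Cat X) (z : Z.left)

/-- `σ` fixes `z` and induces `g` on the residue field. -/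
def Rel (σ : Aut Z) (g : Z.left.residueField z ⟶ Z.left.residueField z) : Prop :=
  Z.left.fromSpecResidueField z ≫ σ.hom.left = Spec.map g ≫ Z.left.fromSpecResidueField z

theorem Rel.one : Rel Z z 1 (𝟙 _) := by
  unfold Rel
  have h1 : (1 : Aut Z).hom = 𝟙 Z := rfl
  rw [h1]
  simp

variable {Z z}

theorem Rel.mul {σ σ' : Aut Z} {g g' : Z.left.residueField z ⟶ Z.left.residueField z}
    (h : Rel Z z σ g) (h' : Rel Z z σ' g') : Rel Z z (σ' * σ) (g' ≫ g) := by
  unfold Rel at *
  have h1 : (σ' * σ).hom = σ.hom ≫ σ'.hom := rfl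
  have h2 : (σ.hom ≫ σ'.hom).left = σ.hom.left ≫ σ'.hom.left := rfl
  rw [h1, h2, ← Category.assoc, h, Category.assoc, h', Spec.map_comp, Category.assoc]

theorem Rel.unique {σ : Aut Z} {g g' : Z.left.residueField z ⟶ Z.left.residueField z}
    (h : Rel Z z σ g) (h' : Rel Z z σ g') : g = g' := by
  unfold Rel at *
  have h1 : Spec.map g ≫ Z.left.fromSpecResidueField z =
      Spec.map g' ≫ Z.left.fromSpecResidueField z := h.symm.trans h'
  exact Spec.map_injective ((cancel_mono _).mp h1)

theorem Rel.over {σ : Aut Z} {g : Z.left.residueField z ⟶ Z.left.residueField z}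
    (h : Rel Z z σ g) : Z.hom.residueFieldMap z ≫ g = Z.hom.residueFieldMap z := by
  unfold Rel at h
  obtain ⟨f, hf⟩ : ∃ f : Z.left ⟶ X, f = Z.hom := ⟨_, rfl⟩
  have hw : σ.hom.left ≫ f = f := by
    rw [hf]
    exact Over.w σ.hom.hom
  have h1 : Spec.map (f.residueFieldMap z ≫ g) ≫ X.fromSpecResidueField _ =
      Spec.map (f.residueFieldMap z) ≫ X.fromSpecResidueField _ := by
    rw [Spec.map_comp, Category.assoc,
      Scheme.Hom.SpecMap_residueFieldMap_fromSpecResidueField, ← Category.assoc, ← h,
      Category.assoc, hw]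
  have h2 := Spec.map_injective ((cancel_mono _).mp h1)
  rw [hf] at h2
  exact h2

/-- Transitivity on geometric fibres: every `κ(x)`-embedding of `κ(z)` in an algebraically closed
field differs from a given one by an automorphism of the cover fixing `z`. -/
theorem exists_rel (hZ : PiSp.IsGaloisCover Z) (Ω : Type u) [Field Ω] [IsAlgClosed Ω]
    (ι τ : Z.left.residueField z ⟶ CommRingCat.of Ω)
    (hτ : Z.hom.residueFieldMap z ≫ τ = Z.hom.residueFieldMap z ≫ ι) :
    ∃ (σ : Aut Z) (g : Z.left.residueField z ⟶ Z.left.residueField z),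
      Rel Z z σ g ∧ g ≫ ι = τ := by
  obtain ⟨f, hf⟩ : ∃ f : Z.left ⟶ X, f = Z.hom := ⟨_, rfl⟩
  rw [← hf] at hτ
  obtain ⟨ξ, hξ⟩ : ∃ ξ : Spec (CommRingCat.of Ω) ⟶ X,
      ξ = Spec.map (f.residueFieldMap z ≫ ι) ≫ X.fromSpecResidueField _ := ⟨_, rfl⟩
  have hs : (Spec.map ι ≫ Z.left.fromSpecResidueField z) ≫ Z.hom = ξ := by
    rw [← hf, hξ, Category.assoc, ← Scheme.Hom.SpecMap_residueFieldMap_fromSpecResidueField,
      Spec.map_comp, Category.assoc]
    rfl
  have ht : (Spec.map τ ≫ Z.left.fromSpecResidueField z) ≫ Z.hom = ξ := by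
    rw [← hf, hξ, ← hτ, Category.assoc, ← Scheme.Hom.SpecMap_residueFieldMap_fromSpecResidueField,
      Spec.map_comp, Category.assoc]
    rfl
  obtain ⟨σ, hσ⟩ := hZ.2 Ω ξ ⟨_, hs⟩ ⟨_, ht⟩
  have h1 : (Spec.map ι ≫ Z.left.fromSpecResidueField z) ≫ σ.hom.left =
      Spec.map τ ≫ Z.left.fromSpecResidueField z := congrArg Subtype.val hσ
  -- decompose `j_z ≫ σ`
  obtain ⟨⟨z', g'⟩, hm⟩ : ∃ p : Σ x, Z.left.residueField x ⟶ .of (Z.left.residueField z),
      Z.left.fromSpecResidueField z ≫ σ.hom.left =
        Spec.map p.2 ≫ Z.left.fromSpecResidueField p.1 :=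
    ⟨(Scheme.SpecToEquivOfField _ _) (Z.left.fromSpecResidueField z ≫ σ.hom.left),
      ((Scheme.SpecToEquivOfField _ _).symm_apply_apply
        (Z.left.fromSpecResidueField z ≫ σ.hom.left)).symm⟩
  dsimp only at hm
  have h2 : (Scheme.SpecToEquivOfField Ω Z.left).symm ⟨z', g' ≫ ι⟩ =
      (Scheme.SpecToEquivOfField Ω Z.left).symm ⟨z, τ⟩ := by
    show Spec.map (g' ≫ ι) ≫ Z.left.fromSpecResidueField z' =
      Spec.map τ ≫ Z.left.fromSpecResidueField z
    rw [← h1, Category.assoc, hm, Spec.map_comp, Category.assoc]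
  have h3 := (Scheme.SpecToEquivOfField Ω Z.left).symm.injective h2
  rw [Scheme.SpecToEquivOfField_eq_iff] at h3
  obtain ⟨e, he⟩ := h3
  dsimp only at e he
  subst e
  rw [Scheme.residueFieldCongr_refl, Iso.refl_hom, Category.id_comp] at he
  exact ⟨σ, g', hm, he⟩

theorem Rel.pow {σ : Aut Z} {K : Type u} [Field K] [Algebra K (Z.left.residueField z)]
    (γ : (Z.left.residueField z) ≃ₐ[K] (Z.left.residueField z))
    (h : Rel Z z σ (CommRingCat.ofHom (γ : Z.left.residueField z →+* Z.left.residueField z)))
    (n : ℕ) :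
    Rel Z z (σ ^ n)
      (CommRingCat.ofHom ((γ ^ n : (Z.left.residueField z) ≃ₐ[K] (Z.left.residueField z)) :
        Z.left.residueField z →+* Z.left.residueField z)) := by
  induction n with
  | zero =>
    rw [pow_zero, pow_zero]
    exact Rel.one Z z
  | succ n ih =>
    have h1 := Rel.mul h ih
    rw [← pow_succ] at h1
    have h2 : CommRingCat.ofHom ((γ ^ n : (Z.left.residueField z) ≃ₐ[K] (Z.left.residueField z)) :
          Z.left.residueField z →+* Z.left.residueField z) ≫
        CommRingCat.ofHom (γ : Z.left.residueField z →+* Z.left.residueField z) =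
        CommRingCat.ofHom ((γ ^ (n + 1) : (Z.left.residueField z) ≃ₐ[K] (Z.left.residueField z)) :
          Z.left.residueField z →+* Z.left.residueField z) := by
      rw [pow_succ']
      rfl
    exact (congrArg (Rel Z z (σ ^ (n + 1))) h2).mp h1

/-- residue field extensions of unramified morphisms locally of finite type are finite -/
theorem finite_residueField {X Y : Scheme.{u}} (f : X ⟶ Y) [FormallyUnramified f]
    [LocallyOfFiniteType f] (x : X) :
    letI : Algebra (Y.residueField (f.base x)) (X.residueField x) :=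
      (f.residueFieldMap x).hom.toAlgebra
    Module.Finite (Y.residueField (f.base x)) (X.residueField x) := by
  algebraize [(f.stalkMap x).hom]
  have : IsLocalHom (algebraMap (Y.presheaf.stalk (f x)) (X.presheaf.stalk x)) :=
    inferInstanceAs <| IsLocalHom (f.stalkMap x).hom
  suffices h : Module.Finite
      (IsLocalRing.ResidueField <| Y.presheaf.stalk (f x))
      (IsLocalRing.ResidueField <| X.presheaf.stalk x) by
    have halg : (f.residueFieldMap x).hom.toAlgebra =
        (inferInstance : Algebra (IsLocalRing.ResidueField <| Y.presheaf.stalk (f x))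
          (IsLocalRing.ResidueField <| X.presheaf.stalk x)) := by
      refine Algebra.algebra_ext _ _ fun x ↦ ?_
      obtain ⟨x, rfl⟩ := IsLocalRing.residue_surjective x
      rfl
    convert! h
    exact congrArg (fun a => @Algebra.toModule _ _ _ _ a) halg
  have : Algebra.EssFiniteType (Y.presheaf.stalk (f x)) (X.presheaf.stalk x) := by
    rw [← RingHom.essFiniteType_algebraMap, RingHom.algebraMap_toAlgebra]
    exact LocallyOfFiniteType.stalkMap f x
  have : Algebra.FormallyUnramified (Y.presheaf.stalk (f x)) (X.presheaf.stalk x) := by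
    rw [← RingHom.formallyUnramified_algebraMap, RingHom.algebraMap_toAlgebra]
    exact FormallyUnramified.stalkMap f x
  infer_instance

/-- residue field extensions of unramified morphisms locally of finite type are separable -/
theorem isSeparable_residueField {X Y : Scheme.{u}} (f : X ⟶ Y) [FormallyUnramified f]
    [LocallyOfFiniteType f] (x : X) :
    letI : Algebra (Y.residueField (f.base x)) (X.residueField x) :=
      (f.residueFieldMap x).hom.toAlgebra
    Algebra.IsSeparable (Y.residueField (f.base x)) (X.residueField x) :=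
  inferInstance

section Main

variable (Z z)

/-- the residue field of the image point, as a type -/
abbrev KK : Type u := ↑(X.residueField (Z.hom.base z))

/-- the residue field of `z`, as a type -/
abbrev LL : Type u := ↑(Z.left.residueField z)

/-- the algebra structure on the residue field extension -/
@[reducible] noncomputable def algKL : Algebra (KK Z z) (LL Z z) :=
  (Z.hom.residueFieldMap z).hom.toAlgebra

attribute [local instance] algKL

set_option maxHeartbeats 1000000 in
/-- The residue field extension at a point of a Galois cover is finite Galois, and every prime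
dividing its degree divides the order of the automorphism group of the cover. -/
theorem galois_residue (hZ : PiSp.IsGaloisCover Z) [Finite (Aut Z)] :
    FiniteDimensional (KK Z z) (LL Z z) ∧ IsGalois (KK Z z) (LL Z z) ∧
      ∀ p : ℕ, p.Prime → p ∣ Module.finrank (KK Z z) (LL Z z) → p ∣ Nat.card (Aut Z) := by
  classical
  haveI hfin : IsFinite Z.hom := Z.prop.1
  haveI het : Etale Z.hom := Z.prop.2
  haveI hfd : Module.Finite (KK Z z) (LL Z z) := finite_residueField Z.hom z
  haveI hsep : Algebra.IsSeparable (KK Z z) (LL Z z) := isSeparable_residueField Z.hom z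
  have hφ : ∀ a : KK Z z, (Z.hom.residueFieldMap z).hom a = algebraMap (KK Z z) (LL Z z) a :=
    fun _ => rfl
  -- key: embeddings into the algebraic closure come from automorphisms
  have key : ∀ τ : LL Z z →ₐ[KK Z z] AlgebraicClosure (LL Z z),
      ∃ (σ : Aut Z) (g : Z.left.residueField z ⟶ Z.left.residueField z), Rel Z z σ g ∧
        ∀ y : LL Z z, algebraMap (LL Z z) (AlgebraicClosure (LL Z z)) (g.hom y) = τ y := by
    intro τ
    obtain ⟨σ, g, hR, hg⟩ := exists_rel hZ (AlgebraicClosure (LL Z z))
      (CommRingCat.ofHom (algebraMap (LL Z z) (AlgebraicClosure (LL Z z))))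
      (CommRingCat.ofHom τ.toRingHom) (by
        ext a
        show τ ((Z.hom.residueFieldMap z).hom a) =
          algebraMap (LL Z z) (AlgebraicClosure (LL Z z)) ((Z.hom.residueFieldMap z).hom a)
        rw [hφ, τ.commutes, IsScalarTower.algebraMap_apply (KK Z z) (LL Z z)
          (AlgebraicClosure (LL Z z))])
    refine ⟨σ, g, hR, fun y => ?_⟩
    exact congrArg (fun k => k.hom y) hg
  have hnormal : Normal (KK Z z) (LL Z z) := by
    rw [normal_iff]
    intro x
    refine ⟨Algebra.IsIntegral.isIntegral x, ?_⟩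
    refine Polynomial.Splits.of_splits_map (algebraMap (LL Z z) (AlgebraicClosure (LL Z z)))
      (IsAlgClosed.splits _) ?_
    intro β hβ
    have hβ' : Polynomial.aeval β (minpoly (KK Z z) x) = 0 := by
      rw [Polynomial.mem_roots', Polynomial.IsRoot.def, Polynomial.map_map,
        ← IsScalarTower.algebraMap_eq, Polynomial.eval_map_algebraMap] at hβ
      exact hβ.2
    obtain ⟨τ, hτ⟩ := IntermediateField.exists_algHom_of_splits_of_aeval
      (F := KK Z z) (E := LL Z z) (K := AlgebraicClosure (LL Z z))
      (fun s => ⟨Algebra.IsIntegral.isIntegral s, IsAlgClosed.splits _⟩) hβ'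
    obtain ⟨σ, g, -, hg⟩ := key τ
    exact ⟨g.hom x, (hg x).trans hτ⟩
  haveI hgal : IsGalois (KK Z z) (LL Z z) := ⟨⟩
  refine ⟨hfd, hgal, fun p hp hdvd => ?_⟩
  haveI : Fact p.Prime := ⟨hp⟩
  rw [← IsGalois.card_aut_eq_finrank] at hdvd
  obtain ⟨γ, hγ⟩ := exists_prime_orderOf_dvd_card' p hdvd
  obtain ⟨σ, g, hR, hg⟩ := key
    ((IsScalarTower.toAlgHom (KK Z z) (LL Z z) (AlgebraicClosure (LL Z z))).comp γ.toAlgHom)
  have hgγ : g = CommRingCat.ofHom (γ : LL Z z →+* LL Z z) := by
    ext y
    apply (algebraMap (LL Z z) (AlgebraicClosure (LL Z z))).injective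
    rw [hg y]
    rfl
  rw [hgγ] at hR
  have hpow := Rel.pow γ hR (orderOf σ)
  rw [pow_orderOf_eq_one] at hpow
  have h1 := Rel.unique hpow (Rel.one Z z)
  have h2 : γ ^ orderOf σ = 1 := by
    ext y
    exact congrArg (fun k => k.hom y) h1
  have h3 : orderOf γ ∣ orderOf σ := orderOf_dvd_of_pow_eq_one h2
  rw [hγ] at h3
  exact h3.trans (orderOf_dvd_natCard σ)

end Main

end Groth.Agent.Lib.Helper9.GalCov
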