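import Mathlib
import Groth.Agent.S7158

/-!
# Galois extensions of degree prime to the residue characteristic are tamely ramified
-/

set_option autoImplicit false
universe u

namespace Groth.Agent.Lib.Helper9.GalCov

open IsLocalRing EtRam
open Groth.Agent.Lib.Helper9 Groth.Agent.Lib.Helper9.DVRExt Groth.Agent.Lib.Helper9.TameBase
  Groth.Agent.Lib.Helper9.AbhyankarCore

/-- a finite extension of degree prime to the characteristic is separable -/
theorem isSeparable_of_not_dvd_finrank (k κ : Type*) [Field k] [Field κ] [Algebra k κ]
    [FiniteDimensional k κ]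
    (h : ∀ p : ℕ, p.Prime → CharP k p → ¬ p ∣ Module.finrank k κ) :
    Algebra.IsSeparable k κ := by
  obtain ⟨q, hq⟩ := CharP.exists k
  rcases CharP.char_is_prime_or_zero k q with hp | h0
  · haveI : Fact q.Prime := ⟨hp⟩
    refine ⟨fun x => ?_⟩
    have hirr := minpoly.irreducible (Algebra.IsIntegral.isIntegral (R := k) x)
    rcases Polynomial.separable_or q hirr with hs | ⟨-, g, -, hg⟩
    · exact hs
    · exfalso
      apply h q hp hq
      have h1 : (minpoly k x).natDegree ∣ Module.finrank k κ := minpoly.degree_dvd
        (Algebra.IsIntegral.isIntegral x)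
      rw [← hg, Polynomial.natDegree_expand] at h1
      exact (Dvd.intro_left _ rfl).trans h1
  · subst h0
    haveI : CharZero k := CharP.charP_to_charZero k
    infer_instance

variable (A K : Type u) {L : Type u} [CommRing A] [IsDomain A] [IsDiscreteValuationRing A]
  [Field K] [Algebra A K] [IsFractionRing A K] [Field L] [Algebra K L] [Algebra A L]
  [IsScalarTower A K L] [FiniteDimensional K L] [IsGalois K L]

include K in
/-- A finite Galois extension of the fraction field of a discrete valuation ring whose degree is
prime to the residue characteristic is tamely ramified. -/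
theorem tame_of_galois
    (hcop : ∀ p : ℕ, p.Prime → CharP (ResidueField A) p → ¬ p ∣ Module.finrank K L) :
    IsTamelyRamified A (algebraMap A L) := by
  classical
  haveI : Algebra.IsSeparable K L := inferInstance
  obtain ⟨e, f, H, hef⟩ := Groth.Agent.S7158.efg A K (L := L)
  intro V hdom hloc
  letI algAV : Algebra A V := (RingHom.codRestrict (algebraMap A L) V hdom.1).toAlgebra
  obtain ⟨P, hP, hPo, -, h1, h2⟩ := Groth.Agent.S7158.perV A K V hdom
  obtain ⟨h3, h4⟩ := hef P hP hPo
  have he : Ideal.ramificationIdx' (maximalIdeal A) (maximalIdeal V) = e := h1.trans h3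
  have hf : Module.finrank (ResidueField A) (ResidueField V) = f := h2.trans h4
  have hepos : e ∣ Module.finrank K L := by
    rw [← H]
    exact (Dvd.intro _ rfl).trans (Dvd.intro_left _ rfl)
  have hfpos : f ∣ Module.finrank K L := by
    rw [← H]
    exact (Dvd.intro_left _ rfl).trans (Dvd.intro_left _ rfl)
  have hfr : 0 < Module.finrank K L := Module.finrank_pos
  have hf0 : 0 < f := Nat.pos_of_dvd_of_pos hfpos hfr
  haveI : FiniteDimensional (ResidueField A) (ResidueField V) :=
    Module.finite_of_finrank_pos (hf ▸ hf0)
  constructor
  · apply isSeparable_of_not_dvd_finrank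
    intro p hp hchar hdvd
    rw [hf] at hdvd
    exact hcop p hp hchar (hdvd.trans hfpos)
  · intro p hp hchar hdvd
    rw [he] at hdvd
    exact hcop p hp hchar (hdvd.trans hepos)

end Groth.Agent.Lib.Helper9.GalCov
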